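import Mathlib

set_option autoImplicit false

namespace Cfsg.Agent.Lib.Helper5.SuzA

/-- In a finite group, if all squares of elements of `W` lie in `Δ ≤ W`, then any subgroup
`N` meeting `Δ` trivially has a complement in `W` containing `Δ`. -/
theorem exists_complement {G : Type*} [Group G] [Finite G] (W Δ N : Subgroup G) (hΔW : Δ ≤ W)
    (hsq : ∀ w ∈ W, w * w ∈ Δ) (hdisj : ∀ w, w ∈ N → w ∈ Δ → w = 1) :
    ∃ C : Subgroup G, Δ ≤ C ∧ C ≤ W ∧ (∀ w, w ∈ C → w ∈ N → w = 1) ∧
      ∀ w ∈ W, ∃ n ∈ N, ∃ c ∈ C, w = n * c := by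
  classical
  let p : Subgroup G → Prop := fun C => Δ ≤ C ∧ C ≤ W ∧ ∀ w, w ∈ C → w ∈ N → w = 1
  have hpΔ : p Δ := ⟨le_refl _, hΔW, fun w hw hn => hdisj w hn hw⟩
  obtain ⟨C, hΔC, ⟨hC1, hC2, hC3⟩, hCmax⟩ := Finite.exists_le_maximal hpΔ
  refine ⟨C, hC1, hC2, hC3, ?_⟩
  intro w hw
  by_contra hcon
  push Not at hcon
  have hnorm : ∀ c ∈ C, ∀ g ∈ W, g * c * g⁻¹ ∈ C := by
    intro c hc g hg
    have : g * c * g⁻¹ = (g * c) * (g * c) * c⁻¹ * (g⁻¹ * g⁻¹) := by group
    rw [this]
    exact mul_mem (mul_mem (hC1 (hsq _ (mul_mem hg (hC2 hc)))) (inv_mem hc))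
      (hC1 (hsq _ (inv_mem hg)))
  have hnorm' : ∀ c ∈ C, ∀ g ∈ W, g⁻¹ * c * g ∈ C := by
    intro c hc g hg
    have := hnorm c hc g⁻¹ (inv_mem hg)
    rwa [inv_inv] at this
  have hww : w * w ∈ C := hC1 (hsq w hw)
  let C' : Subgroup G :=
    { carrier := {g | g ∈ C ∨ g * w ∈ C}
      one_mem' := Or.inl (one_mem C)
      mul_mem' := by
        rintro g h (hg | hg) (hh | hh)
        · exact Or.inl (mul_mem hg hh)
        · right; rw [mul_assoc]; exact mul_mem hg hh
        · right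
          have : g * h * w = (g * w) * (w⁻¹ * h * w) := by group
          rw [this]; exact mul_mem hg (hnorm' h hh w hw)
        · left
          have : g * h = (g * w) * (w⁻¹ * (h * w) * w) * (w * w)⁻¹ := by group
          rw [this]
          exact mul_mem (mul_mem hg (hnorm' _ hh w hw)) (inv_mem hww)
      inv_mem' := by
        rintro g (hg | hg)
        · exact Or.inl (inv_mem hg)
        · right
          have : g⁻¹ * w = w * (g * w)⁻¹ * w⁻¹ * (w * w) := by group
          rw [this]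
          exact mul_mem (hnorm _ (inv_mem hg) w hw) hww }
  have hCC' : C ≤ C' := fun g hg => Or.inl hg
  have hwC' : w⁻¹ ∈ C' := Or.inr (by rw [inv_mul_cancel]; exact one_mem C)
  have hpC' : p C' := by
    refine ⟨hC1.trans hCC', ?_, ?_⟩
    · rintro g (hg | hg)
      · exact hC2 hg
      · have : g = (g * w) * w⁻¹ := by group
        rw [this]; exact mul_mem (hC2 hg) (inv_mem hw)
    · rintro g (hg | hg) hgN
      · exact hC3 g hg hgN
      · exfalso
        exact hcon g⁻¹ (inv_mem hgN) (g * w) hg (by group)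
  have hC'C := hCmax hpC' hCC'
  have hwC : w ∈ C := by
    have := inv_mem (hC'C hwC')
    rwa [inv_inv] at this
  exact hcon 1 (one_mem N) w hwC (one_mul w).symm

end Cfsg.Agent.Lib.Helper5.SuzA
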