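import Mathlib

set_option autoImplicit false
set_option linter.style.haveILetI false

namespace Cfsg.Agent.Lib.Helper5.SuzA

universe u v

open scoped IsMulCommutative in
/-- A nontrivial abelian group with a commuting family of endomorphisms that is transitive on
the nonzero elements is a one-dimensional vector space over a field, the family acting by
scalars. -/
theorem exists_field_of_transitive {B : Type u} [AddCommGroup B] [Nontrivial B]
    (S : Set (AddMonoid.End B)) (hcomm : ∀ s ∈ S, ∀ t ∈ S, s * t = t * s)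
    (htrans : ∀ a b : B, a ≠ 0 → b ≠ 0 → ∃ s ∈ S, s a = b) :
    ∃ (F : Type u) (_ : Field F) (e : B ≃+ F) (c : AddMonoid.End B → F),
      ∀ s ∈ S, ∀ a, e (s a) = c s * e a := by
  classical
  haveI : IsMulCommutative (Subring.closure S) := Subring.isMulCommutative_closure hcomm
  letI : CommRing (Subring.closure S) := inferInstance
  letI : Module (Subring.closure S) B := Module.compHom B (Subring.closure S).subtype
  have hsmul : ∀ (r : Subring.closure S) (a : B), r • a = (r : AddMonoid.End B) a := fun _ _ => rfl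
  have hsimple : IsSimpleModule (Subring.closure S) B := by
    rw [isSimpleModule_iff_toSpanSingleton_surjective]
    refine ⟨inferInstance, fun x hx b => ?_⟩
    by_cases hb : b = 0
    · exact ⟨0, by rw [map_zero, hb]⟩
    · obtain ⟨s, hs, hsx⟩ := htrans x b hx hb
      refine ⟨⟨s, Subring.subset_closure hs⟩, ?_⟩
      rw [LinearMap.toSpanSingleton_apply, hsmul]
      exact hsx
  obtain ⟨I, hI, ⟨ε⟩⟩ := isSimpleModule_iff_quot_maximal.mp hsimple
  letI : Field ((Subring.closure S) ⧸ I) := Ideal.Quotient.field I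
  refine ⟨(Subring.closure S) ⧸ I, inferInstance, ε.toAddEquiv,
    fun s => if h : s ∈ Subring.closure S then Ideal.Quotient.mk I ⟨s, h⟩ else 0, ?_⟩
  intro s hs a
  have hs' : s ∈ Subring.closure S := Subring.subset_closure hs
  simp only [dif_pos hs']
  have h1 : s a = (⟨s, hs'⟩ : Subring.closure S) • a := rfl
  rw [h1]
  show ε ((⟨s, hs'⟩ : Subring.closure S) • a) = _ * ε a
  rw [map_smul]
  generalize ε a = y
  induction y using Quotient.inductionOn' with
  | h y => rfl

/-- Coordinates in the Galois field of order `2 ^ n`. -/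
theorem exists_galois_coords {B : Type u} [AddCommGroup B] [Finite B] {n : ℕ} (hn : n ≠ 0)
    (hcard : Nat.card B = 2 ^ n)
    (S : Set (AddMonoid.End B)) (hcomm : ∀ s ∈ S, ∀ t ∈ S, s * t = t * s)
    (htrans : ∀ a b : B, a ≠ 0 → b ≠ 0 → ∃ s ∈ S, s a = b) :
    ∃ (e : B ≃+ GaloisField 2 n) (c : AddMonoid.End B → GaloisField 2 n),
      ∀ s ∈ S, ∀ a, e (s a) = c s * e a := by
  haveI : Nontrivial B := by
    rw [← Finite.one_lt_card_iff_nontrivial, hcard]
    exact Nat.one_lt_two_pow hn
  obtain ⟨F, hF, e, c, hec⟩ := exists_field_of_transitive S hcomm htrans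
  haveI : Finite F := Finite.of_equiv B e.toEquiv
  haveI : Fintype F := Fintype.ofFinite F
  haveI : Fintype (GaloisField 2 n) := Fintype.ofFinite _
  have hcF : Fintype.card F = Fintype.card (GaloisField 2 n) := by
    rw [← Nat.card_eq_fintype_card, ← Nat.card_eq_fintype_card, GaloisField.card 2 n hn, ← hcard]
    exact (Nat.card_congr e.toEquiv).symm
  let r := FiniteField.ringEquivOfCardEq hcF
  refine ⟨e.trans r.toAddEquiv, fun s => r (c s), ?_⟩
  intro s hs a
  show r (e (s a)) = r (c s) * r (e a)
  rw [hec s hs a, map_mul]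

/-- Multiplicative version: a finite group of exponent two and order `2 ^ n` with a commuting
family of endomorphisms transitive on nonidentity elements gets coordinates in `GF(2 ^ n)`. -/
theorem exists_coords {G : Type u} [Group G] [Finite G] {n : ℕ} (hn : n ≠ 0)
    (hcard : Nat.card G = 2 ^ n) (h2 : ∀ g : G, g * g = 1) {K : Type v} (r : K → G →* G)
    (hcomm : ∀ k k' a, r k (r k' a) = r k' (r k a))
    (htrans : ∀ a b : G, a ≠ 1 → b ≠ 1 → ∃ k, r k a = b) :
    ∃ (e : G → GaloisField 2 n) (c : K → GaloisField 2 n), Function.Bijective e ∧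
      (∀ a b, e (a * b) = e a + e b) ∧ ∀ k a, e (r k a) = c k * e a := by
  have hinv : ∀ g : G, g⁻¹ = g := fun g => inv_eq_of_mul_eq_one_right (h2 g)
  have hc : ∀ a b : G, a * b = b * a := by
    intro a b
    have h := h2 (a * b)
    have h3 : a * b = (a * b)⁻¹ := (hinv _).symm
    rw [h3, mul_inv_rev, hinv, hinv]
  letI : CommGroup G := { ‹Group G› with mul_comm := hc }
  haveI : Finite (Additive G) := ‹Finite G›
  let S : Set (AddMonoid.End (Additive G)) := Set.range fun k => MonoidHom.toAdditive (r k)
  obtain ⟨e, c, hec⟩ := exists_galois_coords (B := Additive G) hn hcard S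
    (by
      rintro _ ⟨k, rfl⟩ _ ⟨k', rfl⟩
      ext a
      exact congrArg Additive.ofMul (hcomm k k' a.toMul))
    (by
      intro a b ha hb
      obtain ⟨k, hk⟩ := htrans a.toMul b.toMul ha hb
      exact ⟨_, ⟨k, rfl⟩, congrArg Additive.ofMul hk⟩)
  refine ⟨fun g => e (Additive.ofMul g), fun k => c (MonoidHom.toAdditive (r k)), ?_, ?_, ?_⟩
  · exact e.bijective.comp Additive.ofMul.bijective
  · intro a b
    show e (Additive.ofMul a + Additive.ofMul b) = _
    rw [map_add]
  · intro k a
    exact hec _ ⟨k, rfl⟩ (Additive.ofMul a)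

end Cfsg.Agent.Lib.Helper5.SuzA
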