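import Mathlib

set_option autoImplicit false
set_option linter.style.haveILetI false
set_option linter.unusedSectionVars false

namespace Cfsg.Agent.Lib.Helper5.SuzA

open Subgroup

section
variable {P : Type*} [Group P]

theorem aut_mem_center (f : MulAut P) {z : P} (hz : z ∈ center P) : f z ∈ center P := by
  rw [Subgroup.mem_center_iff] at hz ⊢
  intro g
  have h2 := congrArg f (hz (f⁻¹ g))
  rw [map_mul, map_mul, MulAut.apply_inv_self] at h2
  exact h2

theorem aut_mem_center_iff (f : MulAut P) {z : P} : f z ∈ center P ↔ z ∈ center P := by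
  refine ⟨fun h => ?_, aut_mem_center f⟩
  have := aut_mem_center f⁻¹ h
  rwa [MulAut.inv_apply_self] at this

end

/-- The hypotheses on a Suzuki 2-group with `|P| = |Z(P)|²`, for an abelian group `K` of
automorphisms. -/
structure Hyp {P : Type*} [Group P] {K : Type*} [CommGroup K] (ρ : K →* MulAut P) : Prop where
  h2g : IsPGroup 2 P
  hReg : ∀ x y : P, x ≠ 1 → x * x = 1 → y ≠ 1 → y * y = 1 → ∃! k : K, ρ k x = y
  hinv : ∀ x : P, (x ≠ 1 ∧ x * x = 1) ↔ (x ∈ center P ∧ x ≠ 1)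
  hZ2 : ∀ z ∈ center P, z * z = 1
  hcard : Nat.card P = Nat.card (center P) ^ 2
  hna : ∃ x y : P, x * y ≠ y * x
  hinv2 : ∃ z : P, z ≠ 1 ∧ z * z = 1

section
variable {P : Type*} [Group P] [Finite P] {K : Type*} [CommGroup K] {ρ : K →* MulAut P}

theorem Hyp.fix_invol (H : Hyp ρ) {k : K} {t : P} (ht1 : t ≠ 1) (ht2 : t * t = 1)
    (hkt : ρ k t = t) : k = 1 := by
  obtain ⟨k0, _, huniq⟩ := H.hReg t t ht1 ht2 ht1 ht2
  have h1 : k = k0 := huniq k hkt
  have h2 : (1 : K) = k0 := huniq 1 (by show ρ 1 t = t; rw [map_one]; rfl)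
  exact h1.trans h2.symm

theorem Hyp.exists_not_center (H : Hyp ρ) : ∃ x : P, x ∉ center P := by
  obtain ⟨x, y, hxy⟩ := H.hna
  refine ⟨y, fun hy => hxy ?_⟩
  exact (Subgroup.mem_center_iff.mp hy x)

theorem Hyp.sq_ne_one (H : Hyp ρ) {x : P} (hx : x ∉ center P) : x * x ≠ 1 := by
  intro h
  have hx1 : x ≠ 1 := fun h1 => hx (h1 ▸ one_mem _)
  exact hx ((H.hinv x).mp ⟨hx1, h⟩).1

/-- `K` acts freely on the nonidentity cosets of the centre. -/
theorem Hyp.free_mod_center (H : Hyp ρ) {k : K} {x : P} (hx : x ∉ center P)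
    (hk : x⁻¹ * ρ k x ∈ center P) : k = 1 := by
  by_contra hk1
  have hfix : ∀ t : P, t ≠ 1 → t * t = 1 → ρ k t = t → False :=
    fun t ht1 ht2 hkt => hk1 (H.fix_invol ht1 ht2 hkt)
  let θ : center P → center P :=
    fun w => ⟨(w : P) * ρ k w, mul_mem w.2 (aut_mem_center _ w.2)⟩
  have hsqk : ∀ w : P, w ∈ center P → ρ k w * ρ k w = 1 := by
    intro w hw
    rw [← map_mul, H.hZ2 w hw, map_one]
  have hθinj : Function.Injective θ := by
    intro w w' h
    have h' : (w : P) * ρ k w = (w' : P) * ρ k w' := congrArg Subtype.val h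
    by_contra hne
    have hw2 : (w : P) * (w : P) = 1 := H.hZ2 _ w.2
    have hw'2 : (w' : P) * (w' : P) = 1 := H.hZ2 _ w'.2
    have hu : (w : P) * (w' : P) ∈ center P := mul_mem w.2 w'.2
    have hu2 : (w : P) * (w' : P) * ((w : P) * (w' : P)) = 1 := H.hZ2 _ hu
    have hu1 : (w : P) * (w' : P) ≠ 1 := by
      intro h1
      apply hne
      ext
      calc (w : P) = (w : P) * ((w' : P) * (w' : P)) := by rw [hw'2, mul_one]
        _ = (w : P) * (w' : P) * (w' : P) := by rw [mul_assoc]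
        _ = (w' : P) := by rw [h1, one_mul]
    apply hfix _ hu1 hu2
    have hkw : ρ k w = (w : P) * ((w' : P) * ρ k w') := by
      have : ρ k w = (w : P)⁻¹ * ((w' : P) * ρ k w') := eq_inv_mul_of_mul_eq h'
      rw [this, inv_eq_of_mul_eq_one_right hw2]
    rw [map_mul, hkw, mul_assoc, mul_assoc, hsqk _ w'.2, mul_one]
  obtain ⟨w, hw⟩ := Finite.surjective_of_injective hθinj ⟨_, hk⟩
  have hw' : (w : P) * ρ k w = x⁻¹ * ρ k x := congrArg Subtype.val hw
  have hkx : ρ k x = x * ((w : P) * ρ k w) := by rw [hw', mul_inv_cancel_left]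
  have hky : ρ k (x * w) = x * w := by
    rw [map_mul, hkx, mul_assoc, mul_assoc, hsqk _ w.2, mul_one]
  have hy : x * (w : P) ∉ center P := by
    intro h
    apply hx
    have := mul_mem h (inv_mem w.2)
    rwa [mul_inv_cancel_right] at this
  obtain ⟨m, hm⟩ := (IsPGroup.iff_orderOf.mp H.h2g) (x * (w : P))
  have hm0 : m ≠ 0 := by
    rintro rfl
    rw [pow_zero, orderOf_eq_one_iff] at hm
    exact hy (hm ▸ one_mem _)
  apply hfix ((x * (w : P)) ^ (2 ^ (m - 1)))
  · intro h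
    have hd := orderOf_dvd_of_pow_eq_one h
    rw [hm, Nat.pow_dvd_pow_iff_le_right (le_refl 2)] at hd
    omega
  · rw [← pow_add]
    have : 2 ^ (m - 1) + 2 ^ (m - 1) = 2 ^ m := by
      obtain ⟨j, rfl⟩ := Nat.exists_eq_succ_of_ne_zero hm0
      rw [Nat.succ_sub_one, pow_succ]; ring
    rw [this, ← hm, pow_orderOf_eq_one]
  · rw [map_pow, hky]


theorem Hyp.card_K (H : Hyp ρ) : Nat.card K + 1 = Nat.card (center P) := by
  classical
  obtain ⟨z₀, hz₀1, hz₀2⟩ := H.hinv2
  have hz₀ : z₀ ∈ center P := ((H.hinv z₀).mp ⟨hz₀1, hz₀2⟩).1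
  let f : K → {z : center P // z ≠ 1} := fun k =>
    ⟨⟨ρ k z₀, aut_mem_center _ hz₀⟩, fun h => hz₀1 (by
      have h' : ρ k z₀ = 1 := congrArg Subtype.val h
      exact (map_eq_one_iff (ρ k) (ρ k).injective).mp h')⟩
  have hf : Function.Bijective f := by
    constructor
    · intro k k' h
      have h' : ρ k z₀ = ρ k' z₀ := congrArg (fun z => ((z.1 : center P) : P)) h
      have hne : ρ k' z₀ ≠ 1 := fun h1 => hz₀1 ((map_eq_one_iff (ρ k') (ρ k').injective).mp h1)
      have hsq : ρ k' z₀ * ρ k' z₀ = 1 := by rw [← map_mul, hz₀2, map_one]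
      obtain ⟨k0, _, huniq⟩ := H.hReg z₀ (ρ k' z₀) hz₀1 hz₀2 hne hsq
      exact (huniq k h').trans (huniq k' rfl).symm
    · rintro ⟨⟨z, hz⟩, hz1⟩
      have hz1' : z ≠ 1 := fun h => hz1 (Subtype.ext h)
      obtain ⟨k, hk, -⟩ := H.hReg z₀ z hz₀1 hz₀2 hz1' (H.hZ2 z hz)
      exact ⟨k, Subtype.ext (Subtype.ext hk)⟩
  rw [Nat.card_congr (Equiv.ofBijective f hf), ← Finite.card_option,
    Nat.card_congr (Equiv.optionSubtypeNe (1 : center P))]

theorem Hyp.card_center_pos (_H : Hyp ρ) : 0 < Nat.card (center P) := Nat.card_pos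

theorem Hyp.card_quot (H : Hyp ρ) : Nat.card (P ⧸ center P) = Nat.card (center P) := by
  have h1 := Subgroup.card_eq_card_quotient_mul_card_subgroup (center P)
  rw [H.hcard, pow_two] at h1
  exact (Nat.eq_of_mul_eq_mul_right H.card_center_pos h1).symm

/-- `K` is transitive on the nonidentity cosets of the centre. -/
theorem Hyp.trans_mod_center (H : Hyp ρ) {x y : P} (hx : x ∉ center P) (hy : y ∉ center P) :
    ∃ k : K, (ρ k x)⁻¹ * y ∈ center P := by
  classical
  let g : K → {v : P ⧸ center P // v ≠ 1} := fun k =>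
    ⟨(ρ k x : P), fun h => hx (by
      rw [QuotientGroup.eq_one_iff] at h
      exact (aut_mem_center_iff _).mp h)⟩
  have hg : Function.Injective g := by
    intro k k' h
    have h' : ((ρ k x : P) : P ⧸ center P) = (ρ k' x : P) := congrArg Subtype.val h
    rw [QuotientGroup.eq] at h'
    have h2 := aut_mem_center (ρ k)⁻¹ h'
    rw [map_mul, map_inv, MulAut.inv_apply_self, ← MulAut.mul_apply, ← map_inv, ← map_mul] at h2
    have := H.free_mod_center hx h2
    exact (inv_mul_eq_one.mp this)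
  have hcard : Nat.card {v : P ⧸ center P // v ≠ 1} ≤ Nat.card K := by
    have h1 : Nat.card {v : P ⧸ center P // v ≠ 1} + 1 = Nat.card (P ⧸ center P) := by
      rw [← Finite.card_option, Nat.card_congr (Equiv.optionSubtypeNe (1 : P ⧸ center P))]
    have h2 := H.card_K
    have h3 := H.card_quot
    omega
  have hbij := hg.bijective_of_nat_card_le hcard
  obtain ⟨k, hk⟩ := hbij.2 ⟨(y : P ⧸ center P), fun h => hy (by
    rwa [QuotientGroup.eq_one_iff] at h)⟩
  refine ⟨k, ?_⟩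
  have h' : ((ρ k x : P) : P ⧸ center P) = (y : P) := congrArg Subtype.val hk
  rwa [QuotientGroup.eq] at h'

/-- Squares are central. -/
theorem Hyp.sq_mem_center (H : Hyp ρ) (x : P) : x * x ∈ center P := by
  by_cases hx : x ∈ center P
  · exact mul_mem hx hx
  obtain ⟨x₁, hx₁⟩ := H.exists_not_center
  obtain ⟨N, hN⟩ := (IsPGroup.iff_card.mp H.h2g)
  have hex : ∃ m, x₁ ^ (2 ^ m) ∈ center P := ⟨N, by rw [← hN, pow_card_eq_one']; exact one_mem _⟩
  classical
  have hmin : ∀ j, j < Nat.find hex → x₁ ^ (2 ^ j) ∉ center P := fun j hj => Nat.find_min hex hj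
  have hspec := Nat.find_spec hex
  set m := Nat.find hex with hm
  have hm0 : m ≠ 0 := by
    intro h0
    rw [h0, pow_zero, pow_one] at hspec
    exact hx₁ hspec
  obtain ⟨j, hj⟩ := Nat.exists_eq_succ_of_ne_zero hm0
  have hy₁ : x₁ ^ (2 ^ j) ∉ center P := hmin j (by omega)
  have hy₁2 : x₁ ^ (2 ^ j) * x₁ ^ (2 ^ j) ∈ center P := by
    rw [← pow_add]
    have : 2 ^ j + 2 ^ j = 2 ^ m := by rw [hj, pow_succ]; ring
    rw [this]; exact hspec
  obtain ⟨k, hk⟩ := H.trans_mod_center hy₁ hx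
  set y := ρ k (x₁ ^ (2 ^ j)) with hy
  have hyy : y * y ∈ center P := by
    rw [hy, ← map_mul]; exact aut_mem_center _ hy₁2
  have hxe : x = y * (y⁻¹ * x) := by rw [mul_inv_cancel_left]
  have hcomm : (y⁻¹ * x) * y = y * (y⁻¹ * x) := (Subgroup.mem_center_iff.mp hk y).symm
  have : x * x = (y * y) * ((y⁻¹ * x) * (y⁻¹ * x)) := by
    conv_lhs => rw [hxe]
    calc y * (y⁻¹ * x) * (y * (y⁻¹ * x)) = y * ((y⁻¹ * x) * y) * (y⁻¹ * x) := by group
      _ = y * (y * (y⁻¹ * x)) * (y⁻¹ * x) := by rw [hcomm]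
      _ = _ := by group
  rw [this]
  exact mul_mem hyy (mul_mem hk hk)

/-- Commutators are central. -/
theorem Hyp.comm_mem_center (H : Hyp ρ) (x y : P) : x * y * x⁻¹ * y⁻¹ ∈ center P := by
  have h : x * y * x⁻¹ * y⁻¹ = (x * y) * (x * y) * ((y⁻¹ * x⁻¹ * y) * (y⁻¹ * x⁻¹ * y)) * (y⁻¹ * y⁻¹) := by
    group
  rw [h]
  exact mul_mem (mul_mem (H.sq_mem_center _) (H.sq_mem_center _)) (H.sq_mem_center _)

end

end Cfsg.Agent.Lib.Helper5.SuzA
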