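import Mathlib
import Cfsg.Agent.Lib.Helper5.SuzA.FieldOfReg
import Cfsg.Agent.Lib.Helper5.SuzA.Quot

set_option autoImplicit false
set_option linter.style.haveILetI false
set_option linter.unusedSectionVars false

namespace Cfsg.Agent.Lib.Helper5.SuzA

open Subgroup

section
variable {P : Type*} [Group P] [Finite P] {K : Type*} [CommGroup K] {ρ : K →* MulAut P}

theorem Hyp.sq_mul (H : Hyp ρ) (x y : P) :
    (x * y) * (x * y) = (y * x * y⁻¹ * x⁻¹) * (x * x) * (y * y) := by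
  have hcomm : ∀ g, g * (y * x * y⁻¹ * x⁻¹) = (y * x * y⁻¹ * x⁻¹) * g :=
    Subgroup.mem_center_iff.mp (H.comm_mem_center y x)
  calc x * y * (x * y) = (x * (y * x * y⁻¹ * x⁻¹)) * x * y * y := by group
    _ = ((y * x * y⁻¹ * x⁻¹) * x) * x * y * y := by rw [hcomm x]
    _ = _ := by group

theorem Hyp.comm_mul (H : Hyp ρ) (y x x' : P) :
    y * (x * x') * y⁻¹ * (x * x')⁻¹ = (y * x * y⁻¹ * x⁻¹) * (y * x' * y⁻¹ * x'⁻¹) := by
  have hcomm : ∀ g, g * (y * x' * y⁻¹ * x'⁻¹) = (y * x' * y⁻¹ * x'⁻¹) * g :=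
    Subgroup.mem_center_iff.mp (H.comm_mem_center y x')
  calc y * (x * x') * y⁻¹ * (x * x')⁻¹
      = (y * x * y⁻¹ * x⁻¹) * (x * (y * x' * y⁻¹ * x'⁻¹)) * x⁻¹ := by group
    _ = (y * x * y⁻¹ * x⁻¹) * ((y * x' * y⁻¹ * x'⁻¹) * x) * x⁻¹ := by rw [hcomm x]
    _ = _ := by group

theorem Hyp.center_nontrivial (H : Hyp ρ) : 1 < Nat.card (center P) := by
  obtain ⟨z₀, hz₀1, hz₀2⟩ := H.hinv2
  have hz₀ : z₀ ∈ center P := ((H.hinv z₀).mp ⟨hz₀1, hz₀2⟩).1
  rw [Finite.one_lt_card_iff_nontrivial]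
  exact ⟨⟨⟨z₀, hz₀⟩, 1, fun h => hz₀1 (congrArg Subtype.val h)⟩⟩

/-- The restriction of the automorphisms to the centre. -/
def resCenter (ρ : K →* MulAut P) (k : K) : center P →* center P :=
  MonoidHom.mk' (fun z => ⟨ρ k z, aut_mem_center _ z.2⟩)
    (fun a b => Subtype.ext (map_mul (ρ k) (a : P) (b : P)))

/-- The induced maps on the central quotient. -/
def quotCenter (ρ : K →* MulAut P) (k : K) : P ⧸ center P →* P ⧸ center P :=
  QuotientGroup.map (center P) (center P) (ρ k).toMonoidHom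
    (fun _ hz => aut_mem_center (ρ k) hz)

theorem quotCenter_mk (k : K) (x : P) :
    quotCenter ρ k (x : P ⧸ center P) = ((ρ k x : P) : P ⧸ center P) := rfl

theorem rho_comm (k k' : K) (x : P) : ρ k (ρ k' x) = ρ k' (ρ k x) := by
  rw [← MulAut.mul_apply, ← MulAut.mul_apply, ← map_mul, ← map_mul, mul_comm]


/-- Coordinates for a Suzuki 2-group with `|P| = |Z(P)|²`. -/
theorem Hyp.exists_coordinates (H : Hyp ρ) :
    ∃ (n : ℕ) (α ζ : P → GaloisField 2 n) (Q : GaloisField 2 n → GaloisField 2 n),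
      n ≠ 0 ∧ Nat.card (center P) = 2 ^ n ∧
      (∀ x y, α (x * y) = α x + α y) ∧ (∀ x, α x = 0 ↔ x ∈ center P) ∧ Function.Surjective α ∧
      (∀ z ∈ center P, ∀ w ∈ center P, ζ (z * w) = ζ z + ζ w) ∧
      (∀ z ∈ center P, ζ z = 0 → z = 1) ∧
      (∀ x, ζ (x * x) = Q (α x)) ∧ (∀ a b, Q (a * b) = Q a * Q b) ∧ Q 0 = 0 ∧
      (∀ c, Q c = 1 → c = 1) ∧
      (∀ a a' b, Q (a + a' + b) + Q (a + a') + Q b
        = (Q (a + b) + Q a + Q b) + (Q (a' + b) + Q a' + Q b)) ∧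
      ∃ a b, Q (a + b) ≠ Q a + Q b := by
  classical
  obtain ⟨n, hn⟩ := IsPGroup.iff_card.mp (H.h2g.to_subgroup (center P))
  have hn0 : n ≠ 0 := by
    rintro rfl
    have := H.center_nontrivial
    rw [hn, pow_zero] at this
    exact lt_irrefl _ this
  -- coordinates on the centre
  obtain ⟨e₁, c₁, he₁bij, he₁add, he₁k⟩ := SuzA.exists_coords (G := center P) hn0 hn
    (fun g => Subtype.ext (H.hZ2 g g.2)) (resCenter ρ)
    (fun k k' a => Subtype.ext (rho_comm k k' (a : P)))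
    (fun a b ha hb => by
      have ha' : (a : P) ≠ 1 := fun h => ha (Subtype.ext h)
      have hb' : (b : P) ≠ 1 := fun h => hb (Subtype.ext h)
      obtain ⟨k, hk, -⟩ := H.hReg a b ha' (H.hZ2 a a.2) hb' (H.hZ2 b b.2)
      exact ⟨k, Subtype.ext hk⟩)
  -- coordinates on the quotient
  obtain ⟨e₂, c₂, he₂bij, he₂add, he₂k⟩ := SuzA.exists_coords (G := P ⧸ center P) hn0
    (H.card_quot.trans hn)
    (fun g => by
      induction g using QuotientGroup.induction_on with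
      | H x =>
        rw [← QuotientGroup.mk_mul, QuotientGroup.eq_one_iff]
        exact H.sq_mem_center x) (quotCenter ρ)
    (fun k k' a => by
      induction a using QuotientGroup.induction_on with
      | H x =>
        rw [quotCenter_mk, quotCenter_mk, quotCenter_mk, quotCenter_mk, rho_comm])
    (fun a b ha hb => by
      induction a using QuotientGroup.induction_on with
      | H x =>
        induction b using QuotientGroup.induction_on with
        | H y =>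
          have hx : x ∉ center P := fun h => ha ((QuotientGroup.eq_one_iff x).mpr h)
          have hy : y ∉ center P := fun h => hb ((QuotientGroup.eq_one_iff y).mpr h)
          obtain ⟨k, hk⟩ := H.trans_mod_center hx hy
          exact ⟨k, by rw [quotCenter_mk]; exact QuotientGroup.eq.mpr hk⟩)
  have he₁one : e₁ 1 = 0 := by
    have := he₁add 1 1
    rw [mul_one] at this
    exact left_eq_add.mp this
  have he₂one : e₂ 1 = 0 := by
    have := he₂add 1 1
    rw [mul_one] at this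
    exact left_eq_add.mp this
  -- α
  let α : P → GaloisField 2 n := fun x => e₂ (x : P ⧸ center P)
  have hαmul : ∀ x y, α (x * y) = α x + α y := fun x y => by
    show e₂ ((x * y : P) : P ⧸ center P) = _
    rw [QuotientGroup.mk_mul, he₂add]
  have hαeq : ∀ x y, α x = α y ↔ y⁻¹ * x ∈ center P := fun x y => by
    show e₂ _ = e₂ _ ↔ _
    rw [he₂bij.1.eq_iff, eq_comm, QuotientGroup.eq]
  have hα0 : ∀ x, α x = 0 ↔ x ∈ center P := fun x => by
    show e₂ _ = 0 ↔ _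
    rw [← he₂one, he₂bij.1.eq_iff, QuotientGroup.eq_one_iff]
  have hαsurj : Function.Surjective α := fun a => by
    obtain ⟨v, hv⟩ := he₂bij.2 a
    obtain ⟨x, rfl⟩ := QuotientGroup.mk_surjective v
    exact ⟨x, hv⟩
  have hαk : ∀ k x, α (ρ k x) = c₂ k * α x := fun k x => by
    show e₂ ((ρ k x : P) : P ⧸ center P) = _
    rw [← quotCenter_mk, he₂k]
  -- ζ₀
  let ζ₀ : P → GaloisField 2 n := fun x => if h : x ∈ center P then e₁ ⟨x, h⟩ else 0
  have hζ₀ : ∀ (x : P) (h : x ∈ center P), ζ₀ x = e₁ ⟨x, h⟩ := fun x h => dif_pos h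
  have hζ₀add : ∀ z ∈ center P, ∀ w ∈ center P, ζ₀ (z * w) = ζ₀ z + ζ₀ w := by
    intro z hz w hw
    rw [hζ₀ _ (mul_mem hz hw), hζ₀ _ hz, hζ₀ _ hw, ← he₁add]
    rfl
  have hζ₀inj : ∀ z ∈ center P, ζ₀ z = 0 → z = 1 := by
    intro z hz h
    rw [hζ₀ _ hz, ← he₁one] at h
    exact congrArg Subtype.val (he₁bij.1 h)
  have hζ₀k : ∀ k, ∀ z ∈ center P, ζ₀ (ρ k z) = c₁ k * ζ₀ z := by
    intro k z hz
    rw [hζ₀ _ (aut_mem_center _ hz), hζ₀ _ hz, ← he₁k]
    rfl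
  have hζ₀one : ζ₀ 1 = 0 := by
    rw [hζ₀ _ (one_mem _)]; exact he₁one
  -- base point
  obtain ⟨x₁, hx₁⟩ := hαsurj 1
  have hx₁Z : x₁ ∉ center P := fun h => by
    rw [← hα0, hx₁] at h
    exact one_ne_zero h
  have hu : ζ₀ (x₁ * x₁) ≠ 0 := fun h =>
    H.sq_ne_one hx₁Z (hζ₀inj _ (H.sq_mem_center x₁) h)
  set u := ζ₀ (x₁ * x₁) with hu_def
  let ζ : P → GaloisField 2 n := fun x => u⁻¹ * ζ₀ x
  have hζadd : ∀ z ∈ center P, ∀ w ∈ center P, ζ (z * w) = ζ z + ζ w := by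
    intro z hz w hw
    show u⁻¹ * ζ₀ (z * w) = u⁻¹ * ζ₀ z + u⁻¹ * ζ₀ w
    rw [hζ₀add z hz w hw, mul_add]
  have hζinj : ∀ z ∈ center P, ζ z = 0 → z = 1 := by
    intro z hz h
    rcases mul_eq_zero.mp h with h | h
    · exact absurd h (inv_ne_zero hu)
    · exact hζ₀inj z hz h
  have hζk : ∀ k, ∀ z ∈ center P, ζ (ρ k z) = c₁ k * ζ z := by
    intro k z hz
    show u⁻¹ * ζ₀ (ρ k z) = c₁ k * (u⁻¹ * ζ₀ z)
    rw [hζ₀k k z hz]; ring
  -- squares depend only on the coset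
  have hsqcoset : ∀ x y, α x = α y → x * x = y * y := by
    intro x y h
    rw [hαeq] at h
    have hc : (y⁻¹ * x) * y = y * (y⁻¹ * x) := (Subgroup.mem_center_iff.mp h y).symm
    have h2 := H.hZ2 _ h
    calc x * x = y * ((y⁻¹ * x) * y) * (y⁻¹ * x) := by group
      _ = y * (y * (y⁻¹ * x)) * (y⁻¹ * x) := by rw [hc]
      _ = y * y * ((y⁻¹ * x) * (y⁻¹ * x)) := by group
      _ = y * y := by rw [h2, mul_one]
  let s : GaloisField 2 n → P := Function.surjInv hαsurj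
  have hs : ∀ a, α (s a) = a := Function.surjInv_eq hαsurj
  let Q : GaloisField 2 n → GaloisField 2 n := fun a => ζ (s a * s a)
  have hQ : ∀ x, ζ (x * x) = Q (α x) := fun x => by
    show ζ (x * x) = ζ (s (α x) * s (α x))
    rw [hsqcoset x (s (α x)) (hs (α x)).symm]
  have hα1 : α 1 = 0 := (hα0 1).mpr (one_mem _)
  have hQ1 : Q 1 = 1 := by
    have h := hQ x₁
    rw [hx₁] at h
    rw [← h]
    show u⁻¹ * u = 1
    exact inv_mul_cancel₀ hu
  have hQ0 : Q 0 = 0 := by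
    have h := hQ 1
    rw [hα1, mul_one] at h
    rw [← h]
    show u⁻¹ * ζ₀ 1 = 0
    rw [hζ₀one, mul_zero]
  have hQk : ∀ k a, Q (c₂ k * a) = c₁ k * Q a := by
    intro k a
    obtain ⟨x, rfl⟩ := hαsurj a
    rw [← hαk, ← hQ, ← hQ, ← map_mul, hζk k _ (H.sq_mem_center x)]
  have hQc : ∀ k, Q (c₂ k) = c₁ k := fun k => by
    have := hQk k 1
    rwa [mul_one, hQ1, mul_one] at this
  have hexk : ∀ a, a ≠ 0 → ∃ k, a = c₂ k := by
    intro a ha
    obtain ⟨x, rfl⟩ := hαsurj a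
    have hx : x ∉ center P := fun h => ha ((hα0 x).mpr h)
    obtain ⟨k, hk⟩ := H.trans_mod_center hx₁Z hx
    refine ⟨k, ?_⟩
    rw [(hαeq x (ρ k x₁)).mpr hk, hαk, hx₁, mul_one]
  have hQmul : ∀ a b, Q (a * b) = Q a * Q b := by
    intro a b
    by_cases ha : a = 0
    · rw [ha, zero_mul, hQ0, zero_mul]
    · obtain ⟨k, rfl⟩ := hexk a ha
      rw [hQk, hQc]
  have hc₂one : c₂ 1 = 1 := by
    have := hαk 1 x₁
    rw [map_one, MulAut.one_apply, hx₁, mul_one] at this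
    exact this.symm
  have hQone : ∀ c, Q c = 1 → c = 1 := by
    intro c hc
    have hc0 : c ≠ 0 := by
      rintro rfl
      rw [hQ0] at hc
      exact zero_ne_one hc
    obtain ⟨k, rfl⟩ := hexk c hc0
    rw [hQc] at hc
    obtain ⟨z₀, hz₀1, hz₀2⟩ := H.hinv2
    have hz₀ : z₀ ∈ center P := ((H.hinv z₀).mp ⟨hz₀1, hz₀2⟩).1
    have h1 := hζ₀k k z₀ hz₀
    rw [hc, one_mul, hζ₀ _ (aut_mem_center _ hz₀), hζ₀ _ hz₀] at h1
    have h2 : ρ k z₀ = z₀ := congrArg Subtype.val (he₁bij.1 h1)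
    rw [H.fix_invol hz₀1 hz₀2 h2, hc₂one]
  -- polarization
  have hpol : ∀ x y, Q (α x + α y) = ζ (y * x * y⁻¹ * x⁻¹) + Q (α x) + Q (α y) := by
    intro x y
    rw [← hαmul, ← hQ, H.sq_mul x y,
      hζadd _ (mul_mem (H.comm_mem_center y x) (H.sq_mem_center x)) _ (H.sq_mem_center y),
      hζadd _ (H.comm_mem_center y x) _ (H.sq_mem_center x), hQ, hQ]
  have hB : ∀ x y, Q (α x + α y) + Q (α x) + Q (α y) = ζ (y * x * y⁻¹ * x⁻¹) := by
    intro x y
    rw [hpol x y]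
    have h1 := CharTwo.add_self_eq_zero (Q (α x))
    have h2 := CharTwo.add_self_eq_zero (Q (α y))
    linear_combination h1 + h2
  refine ⟨n, α, ζ, Q, hn0, hn, hαmul, hα0, hαsurj, hζadd, hζinj, hQ, hQmul, hQ0, hQone, ?_, ?_⟩
  · intro a a' b
    obtain ⟨x, rfl⟩ := hαsurj a
    obtain ⟨x', rfl⟩ := hαsurj a'
    obtain ⟨y, rfl⟩ := hαsurj b
    rw [hB x y, hB x' y, ← hαmul x x', hB (x * x') y, H.comm_mul y x x',
      hζadd _ (H.comm_mem_center y x) _ (H.comm_mem_center y x')]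
  · obtain ⟨x, y, hxy⟩ := H.hna
    refine ⟨α x, α y, fun h => hxy ?_⟩
    have h1 := hpol x y
    rw [h] at h1
    have h3 : ζ (y * x * y⁻¹ * x⁻¹) = 0 := by linear_combination -h1
    have h2 := hζinj _ (H.comm_mem_center y x) h3
    have : y * x = (y * x * y⁻¹ * x⁻¹) * (x * y) := by group
    rw [this, h2, one_mul]

end

end Cfsg.Agent.Lib.Helper5.SuzA
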