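import Mathlib

set_option autoImplicit false
set_option linter.style.haveILetI false

namespace Cfsg.Agent.Lib.Helper5.SuzA

theorem mem_fixed_zpowers_iff {F : Type*} [Field F] (φ : F ≃+* F) (x : F) :
    x ∈ FixedPoints.subfield (Subgroup.zpowers φ) F ↔ φ x = x := by
  have h0 : x ∈ FixedPoints.subfield (Subgroup.zpowers φ) F ↔
      ∀ g : Subgroup.zpowers φ, g • x = x := Iff.rfl
  rw [h0]
  constructor
  · intro h
    exact h ⟨φ, Subgroup.mem_zpowers φ⟩
  · intro h g
    have hle : Subgroup.zpowers φ ≤ MulAction.stabilizer (F ≃+* F) x := by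
      rw [Subgroup.zpowers_le]
      exact h
    exact hle g.2

/-- If `c ↦ c φ(c)` has trivial kernel on a finite field then `φ` has odd order. -/
theorem odd_orderOf_of_norm_inj {F : Type*} [Field F] [Finite F] (φ : F ≃+* F)
    (hinj : ∀ c : F, c * φ c = 1 → c = 1) : Odd (orderOf φ) := by
  classical
  by_contra hodd
  rw [Nat.not_odd_iff_even] at hodd
  have hclaim : ∃ b, φ (φ b) = b ∧ φ b ≠ b := by
    by_contra hcon
    push Not at hcon
    haveI : Finite (F ≃+* F) :=
      Finite.of_injective (fun σ : F ≃+* F => (σ : F → F)) DFunLike.coe_injective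
    haveI : Fintype (Subgroup.zpowers φ) := Fintype.ofFinite _
    haveI : Fintype (Subgroup.zpowers (φ * φ)) := Fintype.ofFinite _
    have h1 := FixedPoints.finrank_eq_card (Subgroup.zpowers φ) F
    have h2 := FixedPoints.finrank_eq_card (Subgroup.zpowers (φ * φ)) F
    have hsub : FixedPoints.subfield (Subgroup.zpowers φ) F
        = FixedPoints.subfield (Subgroup.zpowers (φ * φ)) F := by
      ext x
      rw [mem_fixed_zpowers_iff, mem_fixed_zpowers_iff]
      constructor
      · intro h
        show φ (φ x) = x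
        rw [h, h]
      · intro h
        exact hcon x h
    rw [hsub, h2, ← Nat.card_eq_fintype_card, ← Nat.card_eq_fintype_card, Nat.card_zpowers, Nat.card_zpowers, ← pow_two, orderOf_pow] at h1
    obtain ⟨m, hm⟩ := hodd
    have hpos : 0 < orderOf φ := orderOf_pos φ
    have hg : Nat.gcd (orderOf φ) 2 = 2 := by
      rw [hm, ← two_mul]
      exact Nat.gcd_mul_right_left m 2 |>.symm ▸ rfl
    rw [hg] at h1
    have : orderOf φ / 2 < orderOf φ := Nat.div_lt_self hpos (by norm_num)
    omega
  obtain ⟨b, hb2, hb1⟩ := hclaim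
  have hb0 : b ≠ 0 := by
    rintro rfl
    exact hb1 (map_zero φ)
  have hφb0 : φ b ≠ 0 := fun h => hb0 ((map_eq_zero_iff φ φ.injective).mp h)
  have hc := hinj (b * (φ b)⁻¹) (by
    rw [map_mul, map_inv₀, hb2]
    field_simp)
  apply hb1
  have := congrArg (· * φ b) hc
  simp only [one_mul] at this
  rw [← this, mul_assoc, inv_mul_cancel₀ hφb0, mul_one]

end Cfsg.Agent.Lib.Helper5.SuzA
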