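import Mathlib
import Cfsg.Agent.S1140

set_option autoImplicit false

namespace Cfsg.Agent.Lib.Helper5.SuzA

open Cfsg.Agent.S1140

section
variable {F : Type*} [Field F] [Fintype F] [CharP F 2]

/-- uniqueness of the coefficients of a biadditive map -/
lemma bicoeffs_zero {D : (F ≃+* F) → (F ≃+* F) → F}
    (h : ∀ x y : F, ∑ τ, ∑ σ, D τ σ * (σ x * τ y) = 0) : ∀ τ σ, D τ σ = 0 := by
  have h1 : ∀ x : F, (fun τ => ∑ σ, D τ σ * σ x) = fun _ => 0 := by
    intro x
    apply coeffs_unique
    intro y
    simp only [zero_mul, Finset.sum_const_zero]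
    rw [← h x y]
    apply Finset.sum_congr rfl
    intro τ _
    rw [Finset.sum_mul]
    apply Finset.sum_congr rfl
    intro σ _
    ring
  intro τ σ
  have h2 : (fun σ => D τ σ) = fun _ => 0 := by
    apply coeffs_unique
    intro x
    simp only [zero_mul, Finset.sum_const_zero]
    exact congrFun (h1 x) τ
  exact congrFun h2 σ

/-- A multiplicative map of a finite field of characteristic two whose polarization is
biadditive and nonzero is the product of two distinct automorphisms. -/
theorem exists_auts_of_quadratic (Q : F → F) (hQmul : ∀ a b, Q (a * b) = Q a * Q b)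
    (hbi : ∀ a a' b, Q (a + a' + b) + Q (a + a') + Q b
      = (Q (a + b) + Q a + Q b) + (Q (a' + b) + Q a' + Q b))
    (hne : ∃ a b, Q (a + b) ≠ Q a + Q b) :
    ∃ σ τ : F ≃+* F, σ ≠ τ ∧ ∀ c, Q c = σ c * τ c := by
  have hbi' : ∀ a b b', Q (a + (b + b')) + Q a + Q (b + b')
      = (Q (a + b) + Q a + Q b) + (Q (a + b') + Q a + Q b') := by
    intro a b b'
    have h := hbi b b' a
    rw [add_comm (b + b') a, add_comm b a, add_comm b' a] at h
    linear_combination h
  let B : F →+ F →+ F := AddMonoidHom.mk'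
    (fun a => AddMonoidHom.mk' (fun b => Q (a + b) + Q a + Q b) (fun b b' => hbi' a b b'))
    (fun a a' => by
      ext b
      exact hbi a a' b)
  have hBdef : ∀ a b, B a b = Q (a + b) + Q a + Q b := fun _ _ => rfl
  obtain ⟨d, hd⟩ := exists_bicoeffs B
  have hscale : ∀ c x y, B (c * x) (c * y) = Q c * B x y := by
    intro c x y
    rw [hBdef, hBdef, ← mul_add, hQmul, hQmul, hQmul]
    ring
  have hkey : ∀ c τ σ, d τ σ * (σ c * τ c - Q c) = 0 := by
    intro c
    apply bicoeffs_zero
    intro x y
    have h1 := hd (c * x) (c * y)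
    rw [hscale, hd x y, Finset.mul_sum] at h1
    rw [eq_comm, ← sub_eq_zero, ← Finset.sum_sub_distrib] at h1
    rw [← h1]
    apply Finset.sum_congr rfl
    intro τ _
    rw [Finset.mul_sum, ← Finset.sum_sub_distrib]
    apply Finset.sum_congr rfl
    intro σ _
    rw [map_mul, map_mul]
    ring
  have hexd : ∃ τ σ, d τ σ ≠ 0 := by
    by_contra hcon
    push Not at hcon
    obtain ⟨a, b, hab⟩ := hne
    apply hab
    have h0 : B a b = 0 := by
      rw [hd]
      apply Finset.sum_eq_zero
      intro τ _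
      apply Finset.sum_eq_zero
      intro σ _
      rw [hcon, zero_mul]
    rw [hBdef] at h0
    have h1 := CharTwo.add_self_eq_zero (Q a)
    have h2 := CharTwo.add_self_eq_zero (Q b)
    linear_combination h0 - h1 - h2
  obtain ⟨τ, σ, hdne⟩ := hexd
  have hQ : ∀ c, Q c = σ c * τ c := by
    intro c
    have := hkey c τ σ
    rcases mul_eq_zero.mp this with h | h
    · exact absurd h hdne
    · exact (sub_eq_zero.mp h).symm
  refine ⟨σ, τ, ?_, hQ⟩
  rintro rfl
  obtain ⟨a, b, hab⟩ := hne
  apply hab
  rw [hQ, hQ, hQ, ← map_mul, ← map_mul, ← map_mul, CharTwo.add_mul_self, map_add]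

end

end Cfsg.Agent.Lib.Helper5.SuzA
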