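import Mathlib
import Cfsg.Prelude.Def_LieRecognition
import Cfsg.Agent.Lib.Helper5.SuzA.Complement

set_option autoImplicit false
set_option linter.unusedSectionVars false

namespace Cfsg.Agent.Lib.Helper5.SuzA

open Matrix Subgroup

section
variable {F : Type*} [Field F] (φ : F →+* F)

/-- the matrices of the group of type A -/
def MA (a b : F) : Matrix (Fin 3) (Fin 3) F := !![1, 0, 0; a, 1, 0; b, φ a, 1]

theorem MA_mul (a b a' b' : F) :
    MA φ a b * MA φ a' b' = MA φ (a + a') (b + b' + φ a * a') := by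
  ext i j
  fin_cases i <;> fin_cases j <;> simp [MA, Matrix.mul_apply, Fin.sum_univ_three] <;> ring

theorem MA_det (a b : F) : (MA φ a b).det = 1 := by
  rw [Matrix.det_fin_three]; simp [MA]

theorem MA_zero : MA φ 0 0 = 1 := by
  ext i j; fin_cases i <;> fin_cases j <;> simp [MA]

theorem MA_inj {a b a' b' : F} (h : MA φ a b = MA φ a' b') : a = a' ∧ b = b' := by
  have h1 := congrFun (congrFun h 1) 0
  have h2 := congrFun (congrFun h 2) 0
  simp [MA] at h1 h2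
  exact ⟨h1, h2⟩

/-- as elements of `GL` -/
noncomputable def GA (a b : F) : GL (Fin 3) F :=
  Matrix.GeneralLinearGroup.mkOfDetNeZero (MA φ a b) (by rw [MA_det]; exact one_ne_zero)

theorem GA_coe (a b : F) : ((GA φ a b : GL (Fin 3) F) : Matrix (Fin 3) (Fin 3) F) = MA φ a b := rfl

theorem GA_mul (a b a' b' : F) :
    GA φ a b * GA φ a' b' = GA φ (a + a') (b + b' + φ a * a') := by
  apply Units.ext
  rw [Units.val_mul, GA_coe, GA_coe, GA_coe, MA_mul]

theorem GA_zero : GA φ 0 0 = 1 := Units.ext (MA_zero φ)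

theorem GA_inj {a b a' b' : F} (h : GA φ a b = GA φ a' b') : a = a' ∧ b = b' :=
  MA_inj φ (congrArg Units.val h)

theorem GA_inv (h2 : (2 : F) = 0) (a b : F) : (GA φ a b)⁻¹ = GA φ a (b + φ a * a) := by
  apply inv_eq_of_mul_eq_one_right
  rw [GA_mul, ← GA_zero φ]
  congr 1
  · linear_combination a * h2
  · linear_combination (b + φ a * a) * h2

/-- the group of type A as a set of matrices -/
def TA (h2 : (2 : F) = 0) : Subgroup (GL (Fin 3) F) where
  carrier := {g | ∃ a b, g = GA φ a b}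
  one_mem' := ⟨0, 0, (GA_zero φ).symm⟩
  mul_mem' := by
    rintro _ _ ⟨a, b, rfl⟩ ⟨a', b', rfl⟩
    exact ⟨_, _, GA_mul φ a b a' b'⟩
  inv_mem' := by
    rintro _ ⟨a, b, rfl⟩
    exact ⟨_, _, GA_inv φ h2 a b⟩

theorem suzukiTypeA_eq (h2 : (2 : F) = 0) : Cfsg.suzukiTypeA F φ = TA φ h2 := by
  unfold Cfsg.suzukiTypeA
  have : {g : GL (Fin 3) F | ∃ x y : F,
      (g : Matrix (Fin 3) (Fin 3) F) = !![1, 0, 0; x, 1, 0; y, φ x, 1]} = (TA φ h2 : Set _) := by
    ext g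
    constructor
    · rintro ⟨x, y, h⟩
      exact ⟨x, y, Units.ext h⟩
    · rintro ⟨x, y, rfl⟩
      exact ⟨x, y, rfl⟩
  rw [this, Subgroup.closure_eq]

theorem card_TA [Finite F] (h2 : (2 : F) = 0) : Nat.card (TA φ h2) = Nat.card F ^ 2 := by
  rw [pow_two, ← Nat.card_prod]
  apply Nat.card_congr
  refine (Equiv.ofBijective (fun p : F × F => (⟨GA φ p.1 p.2, ⟨p.1, p.2, rfl⟩⟩ : TA φ h2)) ⟨?_, ?_⟩).symm
  · rintro ⟨a, b⟩ ⟨a', b'⟩ h
    have := GA_inj φ (congrArg Subtype.val h)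
    exact Prod.ext this.1 this.2
  · rintro ⟨_, a, b, rfl⟩
    exact ⟨(a, b), rfl⟩

end

section
variable {P : Type*} [Group P] [Finite P] {F : Type*} [Field F] [Finite F]

/-- The splitting argument: a group with the same squaring map as the group of type A is
isomorphic to it. -/
theorem exists_iso_typeA (h2 : (2 : F) = 0) (φ : F →+* F) (α ζ : P → F)
    (hαmul : ∀ x y, α (x * y) = α x + α y) (hα0 : ∀ x, α x = 0 ↔ x ∈ center P)
    (hζadd : ∀ z ∈ center P, ∀ w ∈ center P, ζ (z * w) = ζ z + ζ w)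
    (hζinj : ∀ z ∈ center P, ζ z = 0 → z = 1)
    (hQ : ∀ x, ζ (x * x) = α x * φ (α x))
    (hcard : Nat.card P = Nat.card F ^ 2) :
    Nonempty (P ≃* Cfsg.suzukiTypeA F φ) := by
  classical
  have hadd2 : ∀ a : F, a + a = 0 := fun a => by linear_combination a * h2
  have hα1 : α 1 = 0 := by
    have := hαmul 1 1
    rw [mul_one] at this
    exact left_eq_add.mp this
  have hζ1 : ζ 1 = 0 := by
    have := hζadd 1 (one_mem _) 1 (one_mem _)
    rw [mul_one] at this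
    exact left_eq_add.mp this
  have hαinv : ∀ x, α x⁻¹ = α x := by
    intro x
    have := hαmul x⁻¹ x
    rw [inv_mul_cancel, hα1] at this
    linear_combination -this - hadd2 (α x)
  have hsqZ : ∀ x, x * x ∈ center P := fun x => by
    rw [← hα0, hαmul, hadd2]
  have hZ2 : ∀ z ∈ center P, z * z = 1 := by
    intro z hz
    apply hζinj _ (hsqZ z)
    rw [hQ, (hα0 z).mpr hz, zero_mul]
  have hZinv : ∀ z ∈ center P, z⁻¹ = z := fun z hz => inv_eq_of_mul_eq_one_right (hZ2 z hz)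
  -- the three subgroups
  let W : Subgroup (P × GL (Fin 3) F) :=
    { carrier := {w | ∃ u, w.2 = GA φ (α w.1) u}
      one_mem' := ⟨0, by rw [Prod.fst_one, hα1, GA_zero]; rfl⟩
      mul_mem' := by
        rintro w w' ⟨u, hu⟩ ⟨u', hu'⟩
        exact ⟨_, by rw [Prod.snd_mul, hu, hu', GA_mul, Prod.fst_mul, hαmul]⟩
      inv_mem' := by
        rintro w ⟨u, hu⟩
        exact ⟨_, by rw [Prod.snd_inv, hu, GA_inv φ h2, Prod.fst_inv, hαinv]⟩ }
  let Δ : Subgroup (P × GL (Fin 3) F) :=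
    { carrier := {w | w.1 ∈ center P ∧ w.2 = GA φ 0 (ζ w.1)}
      one_mem' := ⟨one_mem _, by rw [Prod.fst_one, hζ1, GA_zero]; rfl⟩
      mul_mem' := by
        rintro w w' ⟨hw, hu⟩ ⟨hw', hu'⟩
        refine ⟨mul_mem hw hw', ?_⟩
        rw [Prod.snd_mul, hu, hu', GA_mul, Prod.fst_mul, hζadd _ hw _ hw', map_zero, zero_mul,
          add_zero, add_zero]
      inv_mem' := by
        rintro w ⟨hw, hu⟩
        refine ⟨inv_mem hw, ?_⟩
        rw [Prod.snd_inv, hu, GA_inv φ h2, Prod.fst_inv, hZinv _ hw, map_zero, zero_mul, add_zero] }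
  let N : Subgroup (P × GL (Fin 3) F) :=
    { carrier := {w | w.1 = 1 ∧ ∃ u, w.2 = GA φ 0 u}
      one_mem' := ⟨rfl, 0, by rw [GA_zero]; rfl⟩
      mul_mem' := by
        rintro w w' ⟨hw, u, hu⟩ ⟨hw', u', hu'⟩
        have h1 : (w * w').1 = 1 := by rw [Prod.fst_mul, hw, hw', one_mul]
        have h3 : (w * w').2 = GA φ 0 (u + u' + φ 0 * 0) := by
          rw [Prod.snd_mul, hu, hu', GA_mul, add_zero]
        exact ⟨h1, _, h3⟩
      inv_mem' := by
        rintro w ⟨hw, u, hu⟩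
        have h1 : (w⁻¹).1 = 1 := by rw [Prod.fst_inv, hw, inv_one]
        have h3 : (w⁻¹).2 = GA φ 0 (u + φ 0 * 0) := by
          rw [Prod.snd_inv, hu, GA_inv φ h2]
        exact ⟨h1, _, h3⟩ }
  have hΔW : Δ ≤ W := by
    rintro w ⟨hw, hu⟩
    exact ⟨ζ w.1, by rw [hu, (hα0 _).mpr hw]⟩
  have hsq : ∀ w ∈ W, w * w ∈ Δ := by
    rintro w ⟨u, hu⟩
    refine ⟨hsqZ _, ?_⟩
    rw [Prod.snd_mul, hu, GA_mul, Prod.fst_mul, hQ, hadd2, hadd2, zero_add, mul_comm]
  have hdisj : ∀ w, w ∈ N → w ∈ Δ → w = 1 := by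
    rintro w ⟨hw1, -⟩ ⟨-, hu⟩
    rw [hw1, hζ1, GA_zero] at hu
    exact Prod.ext hw1 hu
  obtain ⟨C, hΔC, hCW, hCN, hWC⟩ := exists_complement W Δ N hΔW hsq hdisj
  -- the graph
  have hex : ∀ x : P, ∃ g, ((x, g) : P × GL (Fin 3) F) ∈ C := by
    intro x
    have hxW : ((x, GA φ (α x) 0) : P × GL (Fin 3) F) ∈ W := ⟨0, rfl⟩
    obtain ⟨n, ⟨hn1, -⟩, c, hc, hnc⟩ := hWC _ hxW
    refine ⟨c.2, ?_⟩
    have h1 : x = c.1 := by
      have := congrArg Prod.fst hnc
      rw [Prod.fst_mul, hn1, one_mul] at this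
      exact this
    rw [h1]
    exact hc
  have huniq : ∀ (x : P) (g g' : GL (Fin 3) F), ((x, g) : P × GL (Fin 3) F) ∈ C →
      ((x, g') : P × GL (Fin 3) F) ∈ C → g = g' := by
    intro x g g' hg hg'
    have hmem : ((x, g) : P × GL (Fin 3) F)⁻¹ * (x, g') ∈ C := mul_mem (inv_mem hg) hg'
    have hN : ((x, g) : P × GL (Fin 3) F)⁻¹ * (x, g') ∈ N := by
      obtain ⟨u, hu⟩ := hCW hmem
      refine ⟨by simp, u, ?_⟩
      rw [hu]
      congr 1
      simp [hα1]
    have h1 := hCN _ hmem hN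
    have h3 := congrArg Prod.snd h1
    simp only [Prod.inv_mk, Prod.mk_mul_mk, Prod.snd_one] at h3
    exact (inv_mul_eq_one.mp h3)
  choose Φ hΦ using hex
  have hΦmul : ∀ x y, Φ (x * y) = Φ x * Φ y := by
    intro x y
    apply huniq (x * y) _ _ (hΦ (x * y))
    have := mul_mem (hΦ x) (hΦ y)
    rwa [Prod.mk_mul_mk] at this
  let Φh : P →* GL (Fin 3) F := MonoidHom.mk' Φ hΦmul
  have hΦW : ∀ x, ∃ u, Φ x = GA φ (α x) u := fun x => hCW (hΦ x)
  have hΦmem : ∀ x, Φh x ∈ Cfsg.suzukiTypeA F φ := by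
    intro x
    rw [suzukiTypeA_eq φ h2]
    obtain ⟨u, hu⟩ := hΦW x
    exact ⟨_, _, hu⟩
  have hΦinj : Function.Injective Φh := by
    rw [injective_iff_map_eq_one]
    intro x hx
    have hx' : Φ x = 1 := hx
    obtain ⟨u, hu⟩ := hΦW x
    rw [hx', ← GA_zero φ] at hu
    have hαx : α x = 0 := (GA_inj φ hu).1.symm
    have hxZ : x ∈ center P := (hα0 x).mp hαx
    have h1 : ((x, GA φ 0 (ζ x)) : P × GL (Fin 3) F) ∈ C := hΔC ⟨hxZ, rfl⟩
    have h2' := huniq x _ _ (hΦ x) h1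
    rw [hx', ← GA_zero φ] at h2'
    exact hζinj x hxZ (GA_inj φ h2').2.symm
  let Ψ : P →* Cfsg.suzukiTypeA F φ := Φh.codRestrict _ hΦmem
  have hΨinj : Function.Injective Ψ := by
    intro x y h
    exact hΦinj (congrArg Subtype.val h)
  have hcard' : Nat.card (Cfsg.suzukiTypeA F φ) ≤ Nat.card P := by
    rw [suzukiTypeA_eq φ h2, card_TA, hcard]
  exact ⟨MulEquiv.ofBijective Ψ (hΨinj.bijective_of_nat_card_le hcard')⟩

end

end Cfsg.Agent.Lib.Helper5.SuzA
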